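import Groth.Agent.H20Borel.Image
import Groth.Agent.H20Borel.Exists
import Groth.Agent.H20Borel.Sections
import Groth.Agent.H19Quot.AbelianCat
import Groth.Agent.H20Mu.Conj
import Groth.Agent.S3900

/-!
# Conjugates, images and containments of Borel subgroups over an algebraically closed field
-/

set_option autoImplicit false
set_option linter.style.haveILetI false
set_option backward.isDefEq.respectTransparency false
set_option maxHeartbeats 1000000
set_option synthInstance.maxHeartbeats 100000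

universe u

open CategoryTheory CategoryTheory.Limits MonoidalCategory CartesianMonoidalCategory MonObj AlgebraicGeometry
open Groth.Agent.H27Witt H20Mu H20Conj H20Borel

noncomputable section

namespace Groth.Agent.H19Borel

variable {k : Type u} [Field k] {G : Over (Sk k)} [GrpObj G]

local notation "Pt" X => 𝟙_ (Over (Sk k)) ⟶ X

/-- A conjugate is a composite with a conjugation. -/
theorem conjBy_eq {H : Over (Sk k)} (g : Pt G) (i : H ⟶ G) : AGF.conjBy g i = i ≫ conj g⁻¹ := by
  rw [comp_conj, AGF.conjBy]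
  simp only [GrpObj.comp_inv, _root_.inv_inv]

theorem conjBy_comp {A H : Over (Sk k)} (g : Pt G) (f : A ⟶ H) (i : H ⟶ G) :
    f ≫ AGF.conjBy g i = AGF.conjBy g (f ≫ i) := by
  rw [conjBy_eq, conjBy_eq, Category.assoc]

theorem conjBy_conjBy {H : Over (Sk k)} (g g' : Pt G) (i : H ⟶ G) :
    AGF.conjBy g (AGF.conjBy g' i) = AGF.conjBy (g * g') i := by
  simp only [AGF.conjBy, MonObj.comp_mul]
  group

theorem conjBy_one {H : Over (Sk k)} (i : H ⟶ G) : AGF.conjBy (1 : Pt G) i = i := by
  simp only [AGF.conjBy, MonObj.comp_one]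
  group

theorem isMonHom_conjBy {H : Over (Sk k)} [GrpObj H] (g : Pt G) (i : H ⟶ G) [IsMonHom i] :
    IsMonHom (AGF.conjBy g i) := by
  rw [conjBy_eq]; infer_instance

theorem mono_conjBy {H : Over (Sk k)} (g : Pt G) (i : H ⟶ G) [Mono i] : Mono (AGF.conjBy g i) :=
  ⟨fun a b h => by
    have h' := congrArg (fun m => AGF.conjBy g⁻¹ m) h
    simp only [conjBy_comp, conjBy_conjBy, inv_mul_cancel, conjBy_one] at h'
    exact (cancel_mono i).1 h'⟩

/-- Borel subgroups are closed under mutual containment. -/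
theorem isIso_of_isBorelOver {B B' : Over (Sk k)} [GrpObj B] [GrpObj B'] (iB : B ⟶ G) (iB' : B' ⟶ G)
    (hB : Red.IsBorelOver k iB) (hB' : Red.IsBorelOver k iB') (f : B ⟶ B') (hf : f ≫ iB' = iB) : IsIso f := by
  haveI := hB'.1
  exact hB.2.2.2.2.2 B' iB' f hB'.2.1 hB'.2.2.1 hB'.2.2.2.1 hB'.2.2.2.2.1 hf

variable [IsAffine G.left] [Smooth G.hom]

/-- Conjugates of Borel subgroups are Borel subgroups. -/
theorem isBorelOver_conjBy [IsAlgClosed k] {B : Over (Sk k)} [GrpObj B] (g : Pt G) {iB : B ⟶ G}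
    (hB : Red.IsBorelOver k iB) : Red.IsBorelOver k (AGF.conjBy g iB) := by
  haveI := isIso_conj g⁻¹
  rw [conjBy_eq]
  exact isBorelOver_comp_iso hB _

variable [ConnectedSpace G.left] {Q : Over (Sk k)} [GrpObj Q] [IsAffine Q.left] [Smooth Q.hom]
  [ConnectedSpace Q.left] (q : G ⟶ Q) [IsMonHom q] [Surjective q.left]

/-- The image of a Borel subgroup under a surjective homomorphism. -/
theorem exists_borel_image [IsAlgClosed k] {B : Over (Sk k)} [GrpObj B] (iB : B ⟶ G) (hB : Red.IsBorelOver k iB) :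
    ∃ (B' : Over (Sk k)) (_ : GrpObj B') (iB' : B' ⟶ Q) (p : B ⟶ B'), Red.IsBorelOver k iB' ∧ IsMonHom p ∧
      Flat p.left ∧ Surjective p.left ∧ LocallyOfFinitePresentation p.left ∧ p ≫ iB' = iB ≫ q := by
  obtain ⟨hm, hci, hsm, hconn, -, -⟩ := id hB
  haveI := hm; haveI := hci; haveI := hsm; haveI := hconn
  haveI : IsAffine B.left := isAffine_of_isAffineHom iB.left
  haveI : LocallyOfFiniteType Q.hom := inferInstance
  haveI : QuasiCompact Q.hom := inferInstance
  haveI : LocallyOfFiniteType B.hom := inferInstance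
  haveI : QuasiCompact B.hom := inferInstance
  obtain ⟨C, gC, p, i, hp, hi, hpi, hfl, hsur, hlfp, hcl⟩ :=
    Groth.Agent.H19Quot.AbelianCat.exists_image (iB ≫ q) ⟨inferInstance, inferInstance⟩ ⟨inferInstance, inferInstance⟩
  haveI := hp; haveI := hi; haveI := hfl; haveI := hsur; haveI := hcl
  haveI : Smooth C.hom := Groth.Agent.H13Flat.smooth_of_fppf_covering C.hom fun x =>
    ⟨B.left, p.left, inferInstance, inferInstance, p.left.surjective x, by rw [Over.w]; infer_instance⟩
  haveI : ConnectedSpace C.left := p.left.surjective.connectedSpace p.left.continuous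
  exact ⟨C, gC, i, p, isBorelOver_image q iB hB i p hpi, hp, hfl, hsur, hlfp, hpi⟩

/-- A map of Borel subgroups over a surjective homomorphism is surjective. -/
theorem surjective_of_borel [IsAlgClosed k] {B B' : Over (Sk k)} [GrpObj B] [GrpObj B'] (iB : B ⟶ G)
    (hB : Red.IsBorelOver k iB) (iB' : B' ⟶ Q) (hB' : Red.IsBorelOver k iB') (f : B ⟶ B')
    (hf : f ≫ iB' = iB ≫ q) : Surjective f.left := by
  obtain ⟨C, gC, iC, p, hC, -, hfl, hsur, hlfp, hp⟩ := exists_borel_image q iB hB
  letI := gC; haveI := hfl; haveI := hsur; haveI := hlfp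
  haveI := hB'.2.1; haveI := hC.2.1
  haveI : Mono iB' := Over.mono_of_mono_left _
  obtain ⟨u, hu, -⟩ := Groth.Agent.H19Grp.QuotientDesc.existsUnique_desc p f fun T a b h => by
    have h' := congrArg (fun m => m ≫ iC) h
    simp only [Category.assoc, hp, ← hf] at h'
    simp only [← Category.assoc] at h'
    exact (cancel_mono iB').1 h'
  have huC : u ≫ iB' = iC := by
    haveI : Epi p := Over.epi_of_epi_left _
    rw [← cancel_epi p, ← Category.assoc, hu, hf, hp]
  haveI := isIso_of_isBorelOver iC iB' hC hB' u huC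
  haveI : IsIso u.left := inferInstanceAs (IsIso ((Over.forget _).map u))
  rw [← hu, Over.comp_left]
  infer_instance

/-- Every Borel subgroup of an image is the image of a Borel subgroup. -/
theorem exists_borel_over [IsAlgClosed k] {B' : Over (Sk k)} [GrpObj B'] (iB' : B' ⟶ Q)
    (hB' : Red.IsBorelOver k iB') :
    ∃ (B : Over (Sk k)) (_ : GrpObj B) (iB : B ⟶ G) (p : B ⟶ B'),
      Red.IsBorelOver k iB ∧ Surjective p.left ∧ p ≫ iB' = iB ≫ q := by
  haveI : LocallyOfFiniteType G.hom := inferInstance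
  haveI : QuasiCompact G.hom := inferInstance
  haveI : CompactSpace G.left := QuasiCompact.compactSpace_of_compactSpace G.hom
  obtain ⟨B₀, gB₀, i₀, h₀⟩ := exists_isBorelOver (G := G)
  letI := gB₀
  obtain ⟨C, gC, iC, p, hC, -, -, hsur, -, hp⟩ := exists_borel_image q i₀ h₀
  letI := gC; haveI := hsur
  obtain ⟨y, f, hf⟩ := Groth.Agent.S3900.result k Q C B' iC iB' hC hB'
  obtain ⟨g, hg⟩ := exists_pt_lift q y
  haveI : IsIso f.hom.left := inferInstanceAs (IsIso ((Over.forget _).map f.hom))
  refine ⟨B₀, gB₀, AGF.conjBy g i₀, p ≫ f.hom, isBorelOver_conjBy g h₀, by rw [Over.comp_left]; infer_instance, ?_⟩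
  rw [Category.assoc, hf, conjBy_comp, hp, ← hg]
  simp only [AGF.conjBy, MonObj.mul_comp, GrpObj.inv_comp, Category.assoc]

end Groth.Agent.H19Borel
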